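import Groth.Agent.Lib.MultType.EtaleLift

/-!
# Étale neighbourhoods realising a separable residue extension
-/

universe u

open Polynomial IntermediateField

namespace Groth.Agent.ER4

open Groth.Agent.MultTypeLib (exists_away_lift_monic)

variable {R : Type u} [CommRing R]

/-- An étale neighbourhood with a given separable residue extension. -/
theorem exists_etale_residueField_ext (p : Ideal R) [p.IsPrime] (L : Type u) [Field L]
    [Algebra p.ResidueField L] [Algebra R L] [IsScalarTower R p.ResidueField L]
    [Module.Finite p.ResidueField L] [Algebra.IsSeparable p.ResidueField L] :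
    ∃ (R' : Type u) (_ : CommRing R') (_ : Algebra R R') (_ : Algebra.Etale R R')
      (q : Ideal R') (_ : q.IsPrime), q.comap (algebraMap R R') = p ∧
      Nonempty (L ≃ₐ[R] q.ResidueField) := by
  obtain ⟨α, hα⟩ := Field.exists_primitive_element p.ResidueField L
  let S := Localization.AtPrime p
  let ρ : S →+* p.ResidueField := IsLocalRing.residue S
  have hsep : (minpoly p.ResidueField α).Separable := Algebra.IsSeparable.isSeparable p.ResidueField α
  have hint : IsIntegral p.ResidueField α := Algebra.IsIntegral.isIntegral α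
  obtain ⟨f, hf, -, hfm⟩ := Polynomial.lifts_and_natDegree_eq_and_monic
    ((Polynomial.lifts_iff_coeff_lifts (f := ρ) _).2 fun k => IsLocalRing.residue_surjective _)
    (minpoly.monic hint)
  obtain ⟨s, hs, ι, F, hι, hFm, hFf⟩ := exists_away_lift_monic p hfm
  let Rs := Localization.Away s
  let P : StandardEtalePair Rs := ⟨F, hFm, F.derivative, 1, 0, 1, by simp⟩
  let R' := P.Ring
  letI algR : Algebra R R' := ((algebraMap Rs R').comp (algebraMap R Rs)).toAlgebra
  haveI : IsScalarTower R Rs R' := IsScalarTower.of_algebraMap_eq' rfl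
  haveI : Algebra.Etale R Rs := Algebra.Etale.of_isLocalizationAway s
  haveI : Algebra.Etale R R' := Algebra.Etale.comp R Rs R'
  letI algL : Algebra Rs L := (((algebraMap p.ResidueField L).comp ρ).comp ι).toAlgebra
  have hev : ∀ G : Rs[X], Polynomial.aeval α G = Polynomial.aeval α ((G.map ι).map ρ) := by
    intro G
    rw [Polynomial.aeval_def, Polynomial.aeval_def, Polynomial.eval₂_map, Polynomial.eval₂_map]
    rfl
  have hmap : P.HasMap α := by
    refine ⟨?_, ?_⟩
    · show Polynomial.aeval α F = 0
      rw [hev, hFf, hf, minpoly.aeval]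
    · show IsUnit (Polynomial.aeval α F.derivative)
      rw [hev, ← Polynomial.derivative_map, hFf, ← Polynomial.derivative_map, hf]
      exact IsUnit.mk0 _ (hsep.aeval_derivative_ne_zero (minpoly.aeval _ _))
  let ψ : R' →ₐ[Rs] L := P.lift α hmap
  have hψR : ∀ r, ψ (algebraMap R R' r) = algebraMap R L r := fun r => by
    rw [IsScalarTower.algebraMap_apply R Rs R', AlgHom.commutes]
    show algebraMap p.ResidueField L (ρ (ι (algebraMap R Rs r))) = _
    rw [← RingHom.comp_apply ι, hι, IsScalarTower.algebraMap_apply R p.ResidueField L]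
    rfl
  let ψR : R' →ₐ[R] L := { ψ.toRingHom with commutes' := hψR }
  let q := RingHom.ker ψR
  haveI : q.IsPrime := RingHom.ker_isPrime _
  have hqp : q.comap (algebraMap R R') = p := by
    ext r
    show ψR (algebraMap R R' r) = 0 ↔ _
    rw [AlgHom.commutes, IsScalarTower.algebraMap_apply R p.ResidueField L,
      map_eq_zero_iff _ (algebraMap p.ResidueField L).injective, Ideal.algebraMap_residueField_eq_zero]
  have hunit : q.primeCompl ≤ (IsUnit.submonoid L).comap ψR := fun x hx => by
    show IsUnit (ψR x)
    exact isUnit_iff_ne_zero.2 hx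
  let Ψ : q.ResidueField →ₐ[R] L := Ideal.ResidueField.liftₐ q ψR le_rfl hunit
  have hsurj : Function.Surjective Ψ := by
    let ε : p.ResidueField →ₐ[R] q.ResidueField :=
      Ideal.ResidueField.mapₐ p q (Algebra.ofId R R') hqp.symm
    have hεΨ : ∀ x, Ψ (ε x) = algebraMap p.ResidueField L x := by
      have : (Ψ.comp ε) = IsScalarTower.toAlgHom R p.ResidueField L := Ideal.ResidueField.algHom_ext (by ext)
      exact fun x => AlgHom.congr_fun this x
    intro l
    have hl : l ∈ Algebra.adjoin p.ResidueField {α} := by
      rw [← IntermediateField.adjoin_simple_toSubalgebra_of_isAlgebraic hint.isAlgebraic, hα]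
      trivial
    induction hl using Algebra.adjoin_induction with
    | mem x hx =>
      rw [Set.mem_singleton_iff] at hx
      refine ⟨algebraMap R' _ P.X, ?_⟩
      rw [Ideal.ResidueField.liftₐ_algebraMap, hx]
      exact P.lift_X α hmap
    | algebraMap r => exact ⟨ε r, hεΨ r⟩
    | add x y _ _ hx hy =>
      obtain ⟨a, rfl⟩ := hx
      obtain ⟨b, rfl⟩ := hy
      exact ⟨a + b, map_add Ψ a b⟩
    | mul x y _ _ hx hy =>
      obtain ⟨a, rfl⟩ := hx
      obtain ⟨b, rfl⟩ := hy
      exact ⟨a * b, map_mul Ψ a b⟩
  let eqv := AlgEquiv.ofBijective Ψ ⟨(Ψ : q.ResidueField →+* L).injective, hsurj⟩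
  exact ⟨R', inferInstance, inferInstance, inferInstance, q, inferInstance, hqp, ⟨eqv.symm⟩⟩

end Groth.Agent.ER4
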